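import Groth.Agent.Lib.GenBC24.PrimeZero
import Groth.Agent.Lib.EtSets24.BaseChange
import Groth.Agent.Lib.EtStalk.FiniteBC
import Groth.Agent.Lib.BcMapQ6.LocAcyc

/-!
# Base change in degree zero for abelian sheaves along universally locally acyclic morphisms
-/

set_option autoImplicit false
set_option linter.style.haveILetI false
set_option backward.isDefEq.respectTransparency.types false

universe u

open CategoryTheory CategoryTheory.Limits AlgebraicGeometry Opposite

namespace Groth.Agent.GenBC24

open Groth.Agent.EtStalk Groth.Agent.EtZero9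

variable {X Y X' Y' : Scheme.{u}} (f : X ⟶ Y) (g : Y' ⟶ Y) (f' : X' ⟶ Y') (g' : X' ⟶ X)
  (w : g' ≫ f = f' ≫ g)

/-- The base change maps for groups and for sets correspond. -/
theorem phi_baseChange0 (F : EtCoh.Ab X) :
    phi g ((EtCoh.push f).obj F) ≫ (toSets Y').map (EtCoh.baseChange0 f g f' g' w F) =
      (EtBC.baseChange0Sh f g f' g' w ((toSets X).obj F) ≫ (EtDesc.pushSh f').map (phi g' F) :
        (EtDesc.pullSh g).obj ((toSets Y).obj ((EtCoh.push f).obj F)) ⟶
          (toSets Y').obj ((EtCoh.push f').obj ((EtCoh.pull g').obj F))) := by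
  apply ((EtDesc.adjSh g).homEquiv _ _).injective
  rw [Adjunction.homEquiv_unit, Adjunction.homEquiv_unit]
  apply (sheafToPresheaf _ _).map_injective
  refine NatTrans.ext (funext fun W => ?_)
  obtain ⟨W⟩ := W
  ext s
  show (EtCoh.baseChange0 f g f' g' w F).hom.app (op ((EtCoh.bc g).obj W))
      ((phi g ((EtCoh.push f).obj F)).hom.app (op ((EtCoh.bc g).obj W))
        (((EtDesc.adjSh g).unit.app ((toSets Y).obj ((EtCoh.push f).obj F))).hom.app (op W) s)) =
    (phi g' F).hom.app (op ((EtCoh.bc f').obj ((EtCoh.bc g).obj W)))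
      ((EtBC.baseChange0Sh f g f' g' w ((toSets X).obj F)).hom.app (op ((EtCoh.bc g).obj W))
        (((EtDesc.adjSh g).unit.app ((EtDesc.pushSh f).obj ((toSets X).obj F))).hom.app (op W) s))
  rw [phi_unit g ((EtCoh.push f).obj F) s, EtStalk.baseChange0_germ, EtDesc24.baseChange0_germ,
    NatTrans.naturality_apply]
  exact congrArg _ (phi_unit g' F s).symm

/-- Base change for groups follows from base change for the underlying sets. -/
theorem isIso_baseChange0_of_sets (F : EtCoh.Ab X)
    (h : IsIso (EtBC.baseChange0Sh f g f' g' w ((toSets X).obj F))) :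
    IsIso (EtCoh.baseChange0 f g f' g' w F) := by
  haveI : (toSets Y').ReflectsIsomorphisms := inferInstance
  rw [← isIso_iff_of_reflects_iso _ (toSets Y')]
  have h2 : IsIso ((EtDesc.pushSh f').map (phi g' F)) :=
    @Functor.map_isIso _ _ _ _ _ _ (EtDesc.pushSh f') (phi g' F) (isIso_phi g' F)
  haveI : IsIso (phi g ((EtCoh.push f).obj F) ≫ (toSets Y').map (EtCoh.baseChange0 f g f' g' w F)) := by
    rw [phi_baseChange0 f g f' g' w F]
    exact @IsIso.comp_isIso _ _ _ _ _ _ _ h h2
  exact IsIso.of_isIso_comp_left (phi g ((EtCoh.push f).obj F)) _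

/-- Base change in degree zero for torsion sheaves. -/
theorem isIso_baseChange0_uloc (h : IsPullback g' f' f g) [QuasiCompact f] [QuasiSeparated f] (L : Set ℕ) (n : ℕ)
    (hg : EtAcyc.IsULocAcyclicN g L n) (F : EtCoh.Ab X) (hF : EtAcyc.IsLTorsion L F) :
    IsIso (EtCoh.baseChange0 f g f' g' h.w F) := by
  by_cases hL : ∃ p ∈ L, p.Prime
  · exact isIso_baseChange0_of_sets f g f' g' h.w F
      (EtSets24.isIso_baseChange0Sh_uloc g (isULocZeroAcyclic_of_isULocAcyclicN g hL hg) f f' g' h _)
  · push Not at hL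
    have hz := BcMapQ6.isZero_of_no_prime hL hF
    exact IsZero.isIso ((EtCoh.pull g).map_isZero (Functor.map_isZero _ hz))
      (Functor.map_isZero _ ((EtCoh.pull g').map_isZero hz)) _

end Groth.Agent.GenBC24
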