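import Groth.Agent.Lib.GenBC24.UnivHomeoAcyclic

/-!
# Composition and descent of degree zero local acyclicity
-/

set_option autoImplicit false
set_option linter.style.haveILetI false
set_option backward.isDefEq.respectTransparency.types false

universe u

open CategoryTheory CategoryTheory.Limits AlgebraicGeometry IsLocalRing

namespace Groth.Agent.GenBC24

open LocAcyc24

/-- Composites of locally zero acyclic morphisms. -/
theorem isLocZeroAcyclic_comp {X Y Z : Scheme.{u}} (g : X ⟶ Y) (h : Y ⟶ Z) (hg : EtAcyc.IsLocZeroAcyclic g)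
    (hh : EtAcyc.IsLocZeroAcyclic h) : EtAcyc.IsLocZeroAcyclic (g ≫ h) := by
  intro x RZ RX _ _ _ _ _ _ _ _ _ _ _ _ hc
  let RY := Hens.Hsh (Y.presheaf.stalk (g.base x))
  obtain ⟨φ, hφl, hφ⟩ := exists_map_sh (RA := RY) (RB := RX) (g.stalkMap x).hom
  replace hc := hc.trans (congrArg ((algebraMap (X.presheaf.stalk x) RX).comp)
    (congrArg CommRingCat.Hom.hom (Scheme.Hom.stalkMap_comp g h x)))
  letI : Algebra (Z.presheaf.stalk (h.base (g.base x))) RZ :=
    ‹Algebra (Z.presheaf.stalk ((g ≫ h).base x)) RZ›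
  haveI : IsLocalHom (algebraMap (Z.presheaf.stalk (h.base (g.base x))) RZ) :=
    ‹IsLocalHom (algebraMap (Z.presheaf.stalk ((g ≫ h).base x)) RZ)›
  haveI : Hensel.IsStrictHenselization (Z.presheaf.stalk (h.base (g.base x))) RZ :=
    ‹Hensel.IsStrictHenselization (Z.presheaf.stalk ((g ≫ h).base x)) RZ›
  obtain ⟨ψ, hψl, hψ, hψχ⟩ := exists_factor_sh (RA := RZ) (RB := RY) (RC := RX)
    (h.stalkMap (g.base x)).hom (g.stalkMap x).hom φ hφ (algebraMap RZ RX) hc
  letI := ψ.toAlgebra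
  letI := φ.toAlgebra
  haveI : IsLocalHom (algebraMap RZ RY) := hψl
  haveI : IsLocalHom (algebraMap RY RX) := hφl
  have h₂ := hh (g.base x) RZ RY hψ
  have h₁ := hg x RY RX hφ
  have h₃ := (EtAcyc24.isZeroAcyclic_comp_iff _ _ h₁).1 h₂
  rwa [← Spec.map_comp, ← CommRingCat.ofHom_comp,
    show (algebraMap RY RX).comp (algebraMap RZ RY) = algebraMap RZ RX from hψχ] at h₃

/-- Local acyclicity in degree zero descends along jointly surjective locally acyclic morphisms. -/
theorem isLocZeroAcyclic_of_cover {Y Z : Scheme.{u}} (h : Y ⟶ Z)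
    (H : ∀ y : Y, ∃ (X : Scheme.{u}) (g : X ⟶ Y) (x : X), g.base x = y ∧ EtAcyc.IsLocZeroAcyclic g ∧
      EtAcyc.IsLocZeroAcyclic (g ≫ h)) : EtAcyc.IsLocZeroAcyclic h := by
  intro y RZ RY _ _ _ _ _ _ _ _ _ _ _ _ hc
  obtain ⟨X, g, x, rfl, hg, hgh⟩ := H y
  let RX := Hens.Hsh (X.presheaf.stalk x)
  obtain ⟨φ, hφl, hφ⟩ := exists_map_sh (RA := RY) (RB := RX) (g.stalkMap x).hom
  letI := φ.toAlgebra
  haveI : IsLocalHom (algebraMap RY RX) := hφl
  letI : Algebra RZ RX := (φ.comp (algebraMap RZ RY)).toAlgebra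
  haveI : IsLocalHom (algebraMap RZ RX) := RingHom.isLocalHom_comp φ (algebraMap RZ RY)
  refine (EtAcyc24.isZeroAcyclic_comp_iff _ _ (hg x RY RX hφ)).2 ?_
  rw [← Spec.map_comp, ← CommRingCat.ofHom_comp]
  letI : Algebra (Z.presheaf.stalk ((g ≫ h).base x)) RZ :=
    ‹Algebra (Z.presheaf.stalk (h.base (g.base x))) RZ›
  haveI : IsLocalHom (algebraMap (Z.presheaf.stalk ((g ≫ h).base x)) RZ) :=
    ‹IsLocalHom (algebraMap (Z.presheaf.stalk (h.base (g.base x))) RZ)›
  haveI : Hensel.IsStrictHenselization (Z.presheaf.stalk ((g ≫ h).base x)) RZ :=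
    ‹Hensel.IsStrictHenselization (Z.presheaf.stalk (h.base (g.base x))) RZ›
  refine hgh x RZ RX ?_
  show (φ.comp (algebraMap RZ RY)).comp (algebraMap (Z.presheaf.stalk (h.base (g.base x))) RZ) = _
  rw [RingHom.comp_assoc, hc, ← RingHom.comp_assoc, hφ, RingHom.comp_assoc]
  exact (congrArg ((algebraMap (X.presheaf.stalk x) RX).comp)
    (congrArg CommRingCat.Hom.hom (Scheme.Hom.stalkMap_comp g h x))).symm

/-- Open immersions are locally acyclic in degree zero. -/
theorem isLocZeroAcyclic_of_isOpenImmersion {X Y : Scheme.{u}} (j : X ⟶ Y) [IsOpenImmersion j] :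
    EtAcyc.IsLocZeroAcyclic j := by
  refine EtSets24.isLocZeroAcyclic_of_fp j fun K _ k => ?_
  exact isReduced_of_isOpenImmersion (pullback.snd j k)

end Groth.Agent.GenBC24
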