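import Groth.Agent.Lib.GenBC24.AbBC0
import Groth.Agent.Lib.BcMapQ6.Ingredients
import Groth.Agent.Lib.CdField3.ComposeR
import Groth.Agent.Lib.PBC24.Main
import Groth.Agent.Lib.EtFlasque24.Push
import Groth.Agent.Lib.EtAcyc24.BCTransfer

/-!
# Base change along compactifiable morphisms for universally locally acyclic morphisms
-/

set_option autoImplicit false
set_option linter.style.haveILetI false
set_option backward.isDefEq.respectTransparency.types false

universe u

open CategoryTheory CategoryTheory.Limits AlgebraicGeometry Opposite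

namespace Groth.Agent.GenBC24

open Groth.Agent.EtStalk

variable {X Y : Scheme.{u}} {g : X ⟶ Y} {L : Set ℕ} {n : ℕ}

/-- Base change in degree zero for torsion sheaves, on derived functors. -/
theorem isIso_bcQ_zero (hg : EtAcyc.IsULocAcyclicN g L n) {T YT : Scheme.{u}} (b : T ⟶ Y) [QuasiCompact b]
    [QuasiSeparated b] {h : YT ⟶ X} {e : YT ⟶ T} [PreservesFiniteLimits (EtCoh.pull e)]
    (sq : IsPullback e h b g) (F : EtCoh.Ab T) (hF : EtAcyc.IsLTorsion L F) :
    IsIso (EtBC.bcQ b g h e sq.w 0 F) := by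
  haveI := isIso_baseChange0_uloc b g h e sq L n hg F hF
  haveI : IsIso ((EtCoh.pull g).map ((EtCoh.push b).toRightDerivedZero.app F) ≫ EtBC.bcQ b g h e sq.w 0 F) := by
    rw [EtBC.bcQ_zero_compat b g h e sq.w F]
    infer_instance
  exact IsIso.of_isIso_comp_left ((EtCoh.pull g).map ((EtCoh.push b).toRightDerivedZero.app F)) _

set_option maxHeartbeats 1000000 in
/-- Higher direct images of acyclic sheaves vanish after base change, along compactifiable morphisms. -/
theorem isZero_Rpush_compactifiable (hg : EtAcyc.IsULocAcyclicN g L n) {T Tb YT : Scheme.{u}} (j : T ⟶ Tb)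
    [IsOpenImmersion j] [QuasiCompact j] (p : Tb ⟶ Y) [IsProper p] {h : YT ⟶ X} {e : YT ⟶ T}
    (sq : IsPullback e h (j ≫ p) g) {a : ℕ} (ha : EtAcyc.PrimesIn L a) {J : EtCoh.Ab T}
    (hJ : a • 𝟙 J = 0) (hA : EtFlasque24.Acyc J) (q : ℕ) (hq1 : 1 ≤ q) (hq : q ≤ n) :
    IsZero ((EtCoh.Rpush h q).obj ((EtCoh.pull e).obj J)) := by
  let p' := pullback.snd p g
  let ep := pullback.fst p g
  let j' : YT ⟶ pullback p g := pullback.lift (e ≫ j) h (by rw [Category.assoc]; exact sq.w)
  have hh : j' ≫ p' = h := pullback.lift_snd _ _ _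
  have sqj : IsPullback e j' j ep := by
    refine IsPullback.of_bot ?_ (pullback.lift_fst _ _ _).symm (IsPullback.of_hasPullback p g)
    rw [pullback.lift_snd]
    exact sq
  have hep : EtAcyc.IsLocAcyclicN ep L n := hg ep p' p (IsPullback.of_hasPullback p g).flip
  have hL := LocAcycBC6.locBC_of_locAcyclic hep
  have hJT : EtAcyc.IsLTorsion L J := EtAcyc24.isLTorsion_of_nsmul L ha hJ
  haveI : LocallyQuasiFinite j := inferInstance
  haveI : LocallyOfFiniteType j := inferInstance
  haveI : QuasiSeparated j := inferInstance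
  -- the direct image to the compactification
  let M := (EtCoh.push j).obj J
  have hMT : EtAcyc.IsLTorsion L M := EtAcyc24.isLTorsion_push j L hJT
  have hMA : EtFlasque24.Acyc M := EtFlasque24.acyc_push j hA
  have hz : IsZero ((EtCoh.Rpush p' q).obj ((EtCoh.pull ep).obj M)) := by
    haveI := PBC24.properBC p ‹IsProper p› p' g ep (IsPullback.of_hasPullback p g) M
      (PBC24.isTorsion_of_isLTorsion hMT) q
    exact IsZero.of_iso ((EtCoh.pull g).map_isZero (EtAcyc24.isZero_Rpush_of_acyc p hMA q hq1))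
      (asIso (EtBC.bcQ p g p' ep pullback.condition q M)).symm
  haveI := hL.isIso_baseChange0 sqj hJT
  rw [← hh]
  refine CdField3.isZero_Rpush_compose j' p' q _ fun i k hik => ?_
  rcases i with _ | i
  · obtain rfl : k = q := by omega
    exact hz.of_iso ((EtCoh.Rpush p' k).mapIso
      ((EtCoh.push j').rightDerivedZeroIsoSelf.app _ ≪≫ (asIso (EtCoh.baseChange0 j ep j' e sqj.w J)).symm))
  · haveI : (EtCoh.push j').IsRightAdjoint := (EtCoh.pullPushAdj j').isRightAdjoint
    exact Functor.map_isZero _ (hL.isZero_Rpush sqj hJT (i + 1) (by omega)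
      (EtAcyc24.isZero_Rpush_of_acyc j hA (i + 1) i.succ_pos))

set_option maxHeartbeats 1000000 in
/-- Base change in degrees up to `n` along compactifiable morphisms, for sheaves killed by an integer. -/
theorem isIso_bcQ_compactifiable (hg : EtAcyc.IsULocAcyclicN g L n) {T Tb YT : Scheme.{u}} (j : T ⟶ Tb)
    [IsOpenImmersion j] [QuasiCompact j] (p : Tb ⟶ Y) [IsProper p] {h : YT ⟶ X} {e : YT ⟶ T}
    [PreservesFiniteLimits (EtCoh.pull e)]
    (sq : IsPullback e h (j ≫ p) g) {a : ℕ} (ha : EtAcyc.PrimesIn L a) :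
    ∀ q ≤ n, ∀ F : EtCoh.Ab T, EtCoh.KilledBy a F → IsIso (EtBC.bcQ (j ≫ p) g h e sq.w q F) := by
  intro q
  induction q with
  | zero =>
    intro _ F hF
    exact isIso_bcQ_zero hg (j ≫ p) sq F (EtAcyc24.isLTorsion_of_nsmul L ha (EtBCQ24.nsmul_id_of_killedBy hF))
  | succ m ih =>
    intro hm F hF
    have H := ih (by omega)
    obtain ⟨J, u, hu, hacyc, hJ⟩ := EtBCQ24.exists_acyc_embed F (EtBCQ24.nsmul_id_of_killedBy hF)
    obtain ⟨φ, hφ, -⟩ :=
      EtBCQ24.exists_mono_coker g (j ≫ p) h e sq.w a m H F J u (EtBCQ24.killedBy_of_nsmul hJ)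
    haveI : Epi (EtBC.bcQ (j ≫ p) g h e sq.w (m + 1) J) :=
      (isZero_Rpush_compactifiable hg j p sq ha hJ hacyc (m + 1) (by omega) hm).epi _
    haveI : Epi (EtBC.bcQ (j ≫ p) g h e sq.w (m + 1) F) := Abelian.epi_of_cokernel_π_eq_zero _
      (IsZero.eq_of_tgt (IsZero.of_mono φ (isZero_cokernel_of_epi _)) _ _)
    haveI := EtBCQ24.mono_bcQ_succ g (j ≫ p) h e sq.w a m H F hF
    exact isIso_of_mono_of_epi _

end Groth.Agent.GenBC24
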