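import Groth.Agent.Lib.GenBC24.Main
import Groth.Agent.Lib.EtSets24.GeomConnAcyclic

/-!
# Milnor fibres of universally locally zero acyclic morphisms
-/

set_option autoImplicit false
set_option linter.style.haveILetI false
set_option backward.isDefEq.respectTransparency.types false

universe u

open CategoryTheory CategoryTheory.Limits AlgebraicGeometry Opposite IsLocalRing TensorProduct

namespace Groth.Agent.GenBC24

/-- Milnor fibres of a universally locally zero acyclic morphism are geometrically connected. -/
theorem geometricallyConnected_of_uloc {X S : Scheme.{u}} (f : X ⟶ S) (hf : EtAcyc.IsULocZeroAcyclic f) :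
    EtAcyc.OnStrictLocalizations f (fun _ _ h => GeometricallyConnected h) := by
  intro x A B _ _ _ _ _ _ _ _ _ _ _ _ hc
  refine ShFlat24.geometricallyConnected_of_algClosed _ fun L _ _ η => ?_
  obtain ⟨φ, rfl⟩ := Spec.map_surjective η
  letI : Algebra A L := φ.hom.toAlgebra
  obtain ⟨hnt, hconn⟩ := EtSets24.idempotent_trivial_of_uloc f hf x A B hc L
  haveI := hnt
  haveI : ConnectedSpace ↥(Spec (CommRingCat.of (B ⊗[A] L))) :=
    { toPreconnectedSpace := S2785.preconnected_spec _ hconn
      toNonempty := inferInstanceAs (Nonempty (PrimeSpectrum (B ⊗[A] L))) }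
  exact Function.Surjective.connectedSpace (f := (pullbackSpecIso A B L).inv)
    (pullbackSpecIso A B L).inv.surjective (pullbackSpecIso A B L).inv.continuous

end Groth.Agent.GenBC24
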