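import Groth.Agent.Lib.GenBC24.Comp
import Groth.Agent.S1358
import Groth.Agent.S0434
import Groth.Agent.Lib.UnivHomeo.Basic

/-!
# Generic universal local acyclicity in degree zero
-/

set_option autoImplicit false
set_option linter.style.haveILetI false
set_option backward.isDefEq.respectTransparency.types false

universe u

open CategoryTheory CategoryTheory.Limits AlgebraicGeometry

namespace Groth.Agent.GenBC24

/-- All base changes over `U` are locally acyclic in degree zero. -/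
def GoodOn {X S : Scheme.{u}} (a : X ⟶ S) (U : S.Opens) : Prop :=
  ∀ ⦃Z Z' : Scheme.{u}⦄ (c : Z ⟶ S) (p : Z' ⟶ Z) (q : Z' ⟶ X), Set.range c.base ⊆ (U : Set S) →
    IsPullback q p a c → EtAcyc.IsLocZeroAcyclic p

/-- The irreducible case. -/
theorem exists_goodOn {X S : Scheme.{u}} (a : X ⟶ S) [IrreducibleSpace S] [LocallyOfFiniteType a]
    [QuasiCompact a] : ∃ U : S.Opens, (U : Set S).Nonempty ∧ GoodOn a U := by
  obtain ⟨V, Y', g, X', r, hY', hV, hYa, hgf, hgu, hrc, hrs, hX', hfl, hfp, hqc, hqs, hgr⟩ := S1358.result a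
  haveI := hY'; haveI := hgf; haveI := hrc; haveI := hrs; haveI := hfp; haveI := hqc
  haveI := UH.universallyInjective_of_isUnivHomeo hgu
  haveI := UH.surjective_of_isUnivHomeo hgu
  let pr := pullback.snd a (g ≫ V.ι)
  let q := r ≫ pr
  haveI : LocallyOfFinitePresentation q := hfp
  haveI : Flat q := hfl
  haveI : QuasiCompact q := hqc
  obtain ⟨V₁, hV₁, hred⟩ := S0434.result q hgr
  haveI := hred
  let hh := UH.isHomeomorph_of_isUnivHomeo hgu
  let V₂ : (V : Scheme.{u}).Opens := ⟨g.base '' (V₁ : Set Y'), hh.isOpenMap _ V₁.isOpen⟩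
  refine ⟨V.ι ''ᵁ V₂, ?_, ?_⟩
  · obtain ⟨y, hy⟩ := hV₁
    exact ⟨_, g.base y, ⟨y, hy, rfl⟩, rfl⟩
  intro Z Z' c p qX hc hp
  have hcV : Set.range c.base ⊆ Set.range V.ι.base :=
    hc.trans (Set.image_subset_range _ _)
  let c₀ := IsOpenImmersion.lift V.ι c hcV
  have hc₀ : c₀ ≫ V.ι = c := IsOpenImmersion.lift_fac _ _ _
  let Z₁ := pullback c₀ g
  let s := pullback.fst c₀ g
  let t := pullback.snd c₀ g
  haveI : UniversallyInjective s := MorphismProperty.pullback_fst _ _ inferInstance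
  haveI : IsIntegralHom s := inferInstance
  haveI : Surjective s := inferInstance
  have ht : t ≫ g ≫ V.ι = s ≫ c := by
    rw [← hc₀, ← Category.assoc, ← Category.assoc, pullback.condition]
  have htV : Set.range t.base ⊆ Set.range V₁.ι.base := by
    rintro _ ⟨z, rfl⟩
    rw [Scheme.Opens.range_ι]
    obtain ⟨_, ⟨y, hy, rfl⟩, he⟩ := hc ⟨s z, rfl⟩
    have h : g.base (t z) = g.base y := by
      refine V.ι.isOpenEmbedding.injective (Eq.trans ?_ he.symm)
      rw [← Scheme.Hom.comp_apply, ← Scheme.Hom.comp_apply, ht]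
      rfl
    exact (hh.injective h).symm ▸ hy
  let Z₁' := pullback p s
  let s' := pullback.fst p s
  let p₁ := pullback.snd p s
  haveI : UniversallyInjective s' := MorphismProperty.pullback_fst _ _ inferInstance
  have sqX : IsPullback (s' ≫ qX) p₁ a (t ≫ g ≫ V.ι) := by
    rw [ht]; exact (IsPullback.of_hasPullback p s).paste_horiz hp
  let m : Z₁' ⟶ pullback a (g ≫ V.ι) := pullback.lift (s' ≫ qX) (p₁ ≫ t) (by rw [sqX.w, Category.assoc])
  have sqm : IsPullback m p₁ pr t := by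
    refine IsPullback.of_right ?_ (pullback.lift_snd _ _ _) (IsPullback.of_hasPullback a (g ≫ V.ι))
    rw [pullback.lift_fst]; exact sqX
  let r₁ := pullback.snd r m
  haveI : UniversallyInjective r₁ := MorphismProperty.pullback_snd _ _ inferInstance
  let q₁ := r₁ ≫ p₁
  have sqq : IsPullback (pullback.fst r m) q₁ q t := (IsPullback.of_hasPullback r m).paste_vert sqm
  let t₁ := IsOpenImmersion.lift V₁.ι t htV
  have ht₁ : t₁ ≫ V₁.ι = t := IsOpenImmersion.lift_fac _ _ _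
  let u : pullback r m ⟶ (q ⁻¹ᵁ V₁ : Scheme.{u}) :=
    (isPullback_morphismRestrict q V₁).lift (q₁ ≫ t₁) (pullback.fst r m) (by
      rw [Category.assoc, ht₁, sqq.w])
  have hu₁ : u ≫ (q ⁻¹ᵁ V₁).ι = pullback.fst r m := IsPullback.lift_snd _ _ _ _
  have hu₂ : u ≫ (q ∣_ V₁) = q₁ ≫ t₁ := IsPullback.lift_fst _ _ _ _
  have squ : IsPullback u q₁ (q ∣_ V₁) t₁ := by
    refine IsPullback.of_right ?_ hu₂ (isPullback_morphismRestrict q V₁).flip
    rw [hu₁, ht₁]; exact sqq
  haveI : Flat (q ∣_ V₁) := MorphismProperty.of_isPullback (isPullback_morphismRestrict q V₁).flip ‹Flat q›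
  haveI : LocallyOfFinitePresentation (q ∣_ V₁) :=
    MorphismProperty.of_isPullback (isPullback_morphismRestrict q V₁).flip ‹LocallyOfFinitePresentation q›
  have hu := EtSets24.isULocZeroAcyclic_of_flat (q ∣_ V₁) (fun K _ k =>
    GeometricallyReduced.geometrically_isReduced k _ _ (IsPullback.of_hasPullback _ k)) (Or.inr inferInstance)
  have hq₁ : EtAcyc.IsLocZeroAcyclic q₁ := hu q₁ u t₁ squ
  haveI : UniversallyInjective (r₁ ≫ s') := MorphismProperty.comp_mem _ _ _ ‹_› ‹_›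
  have hcomp : (r₁ ≫ s') ≫ p = q₁ ≫ s := by
    simp only [q₁, Category.assoc, s', p₁, pullback.condition]
  refine isLocZeroAcyclic_of_cover p fun z => ?_
  obtain ⟨x, hx⟩ := (r₁ ≫ s').surjective z
  refine ⟨_, r₁ ≫ s', x, hx, isLocZeroAcyclic_univHomeo _, ?_⟩
  rw [hcomp]
  exact isLocZeroAcyclic_comp _ _ hq₁ (isLocZeroAcyclic_univHomeo s)

/-- A dense open over which all base changes are locally acyclic in degree zero. -/
theorem exists_dense_goodOn {X S : Scheme.{u}} (a : X ⟶ S) [IsNoetherian S] [LocallyOfFiniteType a]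
    [QuasiCompact a] : ∃ U : S.Opens, Dense (U : Set S) ∧
      ∀ ⦃Z Z' : Scheme.{u}⦄ (c : Z ⟶ S) (p : Z' ⟶ Z) (q : Z' ⟶ X), Set.range c.base ⊆ (U : Set S) →
        IsPullback q p a c → EtAcyc.IsULocZeroAcyclic p := by
  let A : Set S.Opens := {W | GoodOn a W}
  refine ⟨sSup A, ?_, ?_⟩
  · refine dense_iff_inter_open.2 fun O hO ⟨x, hx⟩ => ?_
    obtain ⟨I, hIi, hxI⟩ : ∃ I ∈ irreducibleComponents S, x ∈ I :=
      ⟨irreducibleComponent x, irreducibleComponent_mem_irreducibleComponents x, mem_irreducibleComponent⟩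
    let Fset := ⋃₀ (irreducibleComponents S \ {I})
    have hfin : (irreducibleComponents S).Finite := TopologicalSpace.NoetherianSpace.finite_irreducibleComponents
    have hFc : IsClosed Fset := by
      rw [show Fset = _ from Set.sUnion_eq_biUnion]
      exact (hfin.subset Set.diff_subset).isClosed_biUnion fun J hJ => isClosed_of_mem_irreducibleComponents J hJ.1
    have hI : IsPreirreducible I := hIi.1.2
    obtain ⟨y, hyI, hyF⟩ : ∃ y ∈ I, y ∉ Fset := by
      by_contra hne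
      push Not at hne
      obtain ⟨J, hJ, hIJ⟩ := isIrreducible_iff_sUnion_isClosed.1 hIi.1 (hfin.subset Set.diff_subset).toFinset
        (fun J hJ => isClosed_of_mem_irreducibleComponents J ((Set.Finite.mem_toFinset _).1 hJ).1)
        (by rw [Set.Finite.coe_toFinset]; exact hne)
      obtain ⟨hJ₁, hJ₂⟩ := (Set.Finite.mem_toFinset _).1 hJ
      exact hJ₂ (Set.Subset.antisymm (hIi.2 hJ₁.1 hIJ) hIJ)
    obtain ⟨z, hzI, hzO, hzF⟩ := hI O Fsetᶜ hO hFc.isOpen_compl ⟨x, hxI, hx⟩ ⟨y, hyI, hyF⟩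
    let T : S.Opens := ⟨O ∩ Fsetᶜ, hO.inter hFc.isOpen_compl⟩
    have hTI : (T : Set S) ⊆ I := fun w hw => by
      by_contra hwI
      exact hw.2 ⟨irreducibleComponent w, ⟨irreducibleComponent_mem_irreducibleComponents w,
        fun h => hwI ((Set.mem_singleton_iff.1 h) ▸ mem_irreducibleComponent)⟩, mem_irreducibleComponent⟩
    have hTirr : IsIrreducible (T : Set S) := ⟨⟨z, hzO, hzF⟩, fun u v hu hv ⟨p₁, hp₁, hp₁u⟩ ⟨p₂, hp₂, hp₂v⟩ => by
      obtain ⟨w, -, ⟨hwT, hwu⟩, -, hwv⟩ := hI ((T : Set S) ∩ u) ((T : Set S) ∩ v) (T.isOpen.inter hu) (T.isOpen.inter hv)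
        ⟨p₁, hTI hp₁, hp₁, hp₁u⟩ ⟨p₂, hTI hp₂, hp₂, hp₂v⟩
      exact ⟨w, hwT, hwu, hwv⟩⟩
    haveI : IrreducibleSpace (T : Scheme.{u}) := (Subtype.irreducibleSpace hTirr :)
    haveI : LocallyOfFiniteType (a ∣_ T) :=
      MorphismProperty.of_isPullback (isPullback_morphismRestrict a T).flip ‹LocallyOfFiniteType a›
    haveI : QuasiCompact (a ∣_ T) :=
      MorphismProperty.of_isPullback (isPullback_morphismRestrict a T).flip ‹QuasiCompact a›
    obtain ⟨W, ⟨w, hw⟩, hW⟩ := exists_goodOn (a ∣_ T)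
    refine ⟨T.ι w, w.2.1, TopologicalSpace.Opens.mem_sSup.2 ⟨T.ι ''ᵁ W, fun Z Z' c p q hc hp => ?_, ⟨w, hw, rfl⟩⟩⟩
    let c₀ := IsOpenImmersion.lift T.ι c (hc.trans (Set.image_subset_range _ _))
    have hc₀ : c₀ ≫ T.ι = c := IsOpenImmersion.lift_fac _ _ _
    let q₀ := (isPullback_morphismRestrict a T).lift (p ≫ c₀) q (by rw [Category.assoc, hc₀, hp.w])
    refine hW c₀ p q₀ ?_ (IsPullback.of_right ?_ (IsPullback.lift_fst _ _ _ _) (isPullback_morphismRestrict a T).flip)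
    · rintro _ ⟨x', rfl⟩
      obtain ⟨w', hw', he⟩ := hc ⟨x', rfl⟩
      have : c₀ x' = w' := T.ι.isOpenEmbedding.injective (by
        rw [← Scheme.Hom.comp_apply, hc₀]; exact he.symm)
      rw [this]; exact hw'
    · rw [show q₀ ≫ (a ⁻¹ᵁ T).ι = q from IsPullback.lift_snd _ _ _ _, hc₀]; exact hp
  · intro Z Z' c p q hc hp X₁ Y₁ p₁ b' b hb
    have h₁ : IsPullback (b' ≫ q) p₁ a (b ≫ c) := hb.paste_horiz hp
    refine isLocZeroAcyclic_of_cover p₁ fun y => ?_
    obtain ⟨W, hWA, hyW⟩ := TopologicalSpace.Opens.mem_sSup.1 (hc ⟨b (p₁ y), rfl⟩)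
    let O := (b ≫ c) ⁻¹ᵁ W
    refine ⟨_, (p₁ ⁻¹ᵁ O).ι, ⟨y, hyW⟩, rfl, isLocZeroAcyclic_of_isOpenImmersion _, ?_⟩
    rw [← morphismRestrict_ι]
    refine isLocZeroAcyclic_comp _ _ (hWA (O.ι ≫ b ≫ c) (p₁ ∣_ O) _ ?_
      ((isPullback_morphismRestrict p₁ O).flip.paste_horiz h₁)) (isLocZeroAcyclic_of_isOpenImmersion _)
    rintro _ ⟨x', rfl⟩
    exact x'.2

end Groth.Agent.GenBC24
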