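import Groth.Agent.Lib.GenBC24.CompactBC
import Groth.Agent.Lib.BcMapQ6.Point
import Groth.Agent.Lib.BCField24.Point
import Groth.Agent.Lib.Nagata4.AffineComp
import Groth.Agent.Lib.Descend.Basic
import Mathlib.Algebra.Category.Ring.FilteredColimits
import Mathlib.RingTheory.Adjoin.FG
import Mathlib.RingTheory.FiniteType
import Mathlib.CategoryTheory.Limits.Types.Filtered

/-!
# Base change at a point of an affine scheme for universally locally acyclic morphisms
-/

set_option autoImplicit false
set_option linter.style.haveILetI false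
set_option backward.isDefEq.respectTransparency.types false

universe u

open CategoryTheory CategoryTheory.Limits AlgebraicGeometry Opposite

namespace Groth.Agent.GenBC24

section Approx

variable (R A : Type u) [CommRing R] [CommRing A] [Algebra R A]

/-- The finitely generated subalgebras. -/
abbrev FGAlg : Type u := {S : Subalgebra R A // S.FG}

instance : SemilatticeSup (FGAlg R A) := Subtype.semilatticeSup fun _ _ hS hT => Subalgebra.FG.sup hS hT

instance : Nonempty (FGAlg R A) := ⟨⟨⊥, Subalgebra.fg_bot⟩⟩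

/-- The system of finitely generated subalgebras. -/
noncomputable def algFunctor : FGAlg R A ⥤ CommRingCat.{u} where
  obj S := CommRingCat.of S.1
  map {S T} h := CommRingCat.ofHom (Subalgebra.inclusion (leOfHom h : S.1 ≤ T.1)).toRingHom

/-- An algebra as a cocone on its finitely generated subalgebras. -/
noncomputable def algCocone : Cocone (algFunctor R A) where
  pt := CommRingCat.of A
  ι :=
    { app := fun S => CommRingCat.ofHom S.1.val.toRingHom
      naturality := fun _ _ _ => rfl }

/-- An algebra is the colimit of its finitely generated subalgebras. -/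
noncomputable def isColimitAlgCocone : IsColimit (algCocone R A) :=
  haveI : ReflectsColimit (algFunctor R A) (forget CommRingCat.{u}) :=
    reflectsColimit_of_reflectsIsomorphisms _ _
  isColimitOfReflects (forget CommRingCat.{u}) <| Types.FilteredColimit.isColimitOf' _ _
    (fun (a : A) => ⟨⟨Algebra.adjoin R {a}, Subalgebra.fg_adjoin_finset {a} |> fun h => by simpa using h⟩,
      ⟨a, Algebra.subset_adjoin rfl⟩, rfl⟩)
    (fun S x y h => ⟨S, 𝟙 S, by
      have : x = y := Subtype.ext h
      rw [this]⟩)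

/-- The spectra of the finitely generated subalgebras. -/
noncomputable def algDiagram : (FGAlg R A)ᵒᵖ ⥤ Scheme.{u} := (algFunctor R A).op ⋙ Scheme.Spec

/-- The spectrum as a cone over the approximations. -/
noncomputable def algCone : Cone (algDiagram R A) := Scheme.Spec.mapCone (algCocone R A).op

/-- The spectrum is the limit of the approximations. -/
noncomputable def isLimitAlgCone : IsLimit (algCone R A) :=
  isLimitOfPreserves Scheme.Spec (isColimitAlgCocone R A).op

instance (S : (FGAlg R A)ᵒᵖ) : IsAffine ((algDiagram R A).obj S) :=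
  inferInstanceAs (IsAffine (Spec _))

end Approx

variable {X Y : Scheme.{u}} {g : X ⟶ Y} {L : Set ℕ} {n : ℕ}

theorem killedBy_pull {Z W : Scheme.{u}} (b : Z ⟶ W) {a : ℕ} {F : EtCoh.Ab W} (hF : EtCoh.KilledBy a F) :
    EtCoh.KilledBy a ((EtCoh.pull b).obj F) := by
  haveI : (EtCoh.pull b).Additive := (EtCoh.pullPushAdj b).left_adjoint_additive
  refine EtBCQ24.killedBy_of_nsmul ?_
  rw [← CategoryTheory.Functor.map_id, ← Functor.map_nsmul, EtBCQ24.nsmul_id_of_killedBy hF, Functor.map_zero]

/-- Base change along a morphism with a compactification. -/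
theorem isIso_bcQ_of_fac (hg : EtAcyc.IsULocAcyclicN g L n) {T Tb YT : Scheme.{u}} (b : T ⟶ Y) (j : T ⟶ Tb)
    [IsOpenImmersion j] [QuasiCompact j] (p : Tb ⟶ Y) [IsProper p] (hjp : j ≫ p = b) {h : YT ⟶ X} {e : YT ⟶ T}
    [PreservesFiniteLimits (EtCoh.pull e)] (sq : IsPullback e h b g) {a : ℕ} (ha : EtAcyc.PrimesIn L a)
    (F : EtCoh.Ab T) (hF : EtCoh.KilledBy a F) (q : ℕ) (hq : q ≤ n) :
    IsIso (EtBC.bcQ b g h e sq.w q F) := by
  subst hjp
  exact isIso_bcQ_compactifiable hg j p sq ha q hq F hF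

set_option maxHeartbeats 2000000 in
/-- Base change at a field valued point, for inverse images of sheaves killed by an integer. -/
theorem isIso_bcQ_point [IsAffine Y] (hg : EtAcyc.IsULocAcyclicN g L n) {K : Type u} [Field K]
    (σ : Spec (CommRingCat.of K) ⟶ Y) {YK : Scheme.{u}} {h : YK ⟶ X} {e : YK ⟶ Spec (CommRingCat.of K)}
    [PreservesFiniteLimits (EtCoh.pull e)] (sq : IsPullback e h σ g) {a : ℕ} (ha : EtAcyc.PrimesIn L a)
    (F₀ : EtCoh.Ab Y) (hF : EtCoh.KilledBy a F₀) (q : ℕ) (hq : q ≤ n) :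
    IsIso (EtBC.bcQ σ g h e sq.w q ((EtCoh.pull σ).obj F₀)) := by
  let φ : Γ(Y, ⊤) ⟶ CommRingCat.of K := Spec.preimage (σ ≫ Y.isoSpec.hom)
  have hφ : Spec.map φ ≫ Y.isoSpec.inv = σ := by
    rw [Spec.map_preimage, Category.assoc, Iso.hom_inv_id, Category.comp_id]
  letI : Algebra Γ(Y, ⊤) K := φ.hom.toAlgebra
  let D := algDiagram Γ(Y, ⊤) K
  let t : D ⟶ (Functor.const (FGAlg Γ(Y, ⊤) K)ᵒᵖ).obj Y :=
    { app := fun S => Spec.map (CommRingCat.ofHom (algebraMap Γ(Y, ⊤) S.unop.1)) ≫ Y.isoSpec.inv
      naturality := fun S T m => by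
        show Spec.map (CommRingCat.ofHom (Subalgebra.inclusion (leOfHom m.unop)).toRingHom) ≫
          Spec.map (CommRingCat.ofHom (algebraMap Γ(Y, ⊤) T.unop.1)) ≫ Y.isoSpec.inv =
          (Spec.map (CommRingCat.ofHom (algebraMap Γ(Y, ⊤) S.unop.1)) ≫ Y.isoSpec.inv) ≫ 𝟙 Y
        rw [Category.comp_id, ← Spec.map_comp_assoc]
        congr 2 }
  have hσ : ∀ S, (algCone Γ(Y, ⊤) K).π.app S ≫ t.app S = σ := fun S => by
    refine Eq.trans ?_ hφ
    show Spec.map (CommRingCat.ofHom S.unop.1.val.toRingHom) ≫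
      Spec.map (CommRingCat.ofHom (algebraMap Γ(Y, ⊤) S.unop.1)) ≫ Y.isoSpec.inv = _
    rw [← Spec.map_comp_assoc]
    congr 2
  haveI : ∀ S, IsAffineHom (t.app S) := fun S => by
    show IsAffineHom (Spec.map (CommRingCat.ofHom (algebraMap Γ(Y, ⊤) S.unop.1)) ≫ Y.isoSpec.inv)
    infer_instance
  haveI : ∀ S, QuasiCompact (t.app S) := fun S => inferInstance
  haveI : ∀ S, QuasiSeparated (t.app S) := fun S => inferInstance
  refine BcMapQ6.isIso_bcQ_constLimit g (isLimitAlgCone Γ(Y, ⊤) K)
    (Descend.pbIsLimit D t g (algCone Γ(Y, ⊤) K) hσ sq.flip (isLimitAlgCone Γ(Y, ⊤) K))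
    (fun S => t.app S) (fun S T m => Descend.t_nat D t m)
    (fun S => pullback.fst g (t.app S)) (fun S T m => Descend.pbMap_fst D t g m)
    (Descend.pbSnd D t g) (fun S => (IsPullback.of_hasPullback g (t.app S)).flip)
    (fun S T m => Descend.isAffineHom_map D t m) (fun S T m => Descend.pb_isAffineHom_map D t g m)
    σ hσ h (fun S => Descend.pbCone_fst D t g _ hσ sq.flip S)
    e (fun S => (Descend.pbCone_snd D t g _ hσ sq.flip S).symm) sq F₀ q fun i => ?_
  let T := D.obj (op i)
  let b : T ⟶ Y := t.app (op i)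
  haveI : IsAffine T := inferInstance
  haveI : LocallyOfFiniteType b := by
    haveI : LocallyOfFiniteType (Spec.map (CommRingCat.ofHom (algebraMap Γ(Y, ⊤) i.1))) :=
      (HasRingHomProperty.Spec_iff (P := @LocallyOfFiniteType)).2
        (RingHom.finiteType_algebraMap.2 ((Subalgebra.fg_iff_finiteType _).1 i.2))
    show LocallyOfFiniteType (Spec.map (CommRingCat.ofHom (algebraMap Γ(Y, ⊤) i.1)) ≫ Y.isoSpec.inv)
    infer_instance
  obtain ⟨Tb, j, p, _, _, _, hjp⟩ := Nagata4.exists_affine_compactification b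
  exact isIso_bcQ_of_fac hg b j p hjp (IsPullback.of_hasPullback g b).flip ha _ (killedBy_pull b hF) q hq

end Groth.Agent.GenBC24
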