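import Groth.Agent.Lib.EtZero9.Main

/-!
# Zero-acyclicity for sets from acyclicity for groups killed by a prime
-/

set_option autoImplicit false
set_option linter.style.haveILetI false
set_option backward.isDefEq.respectTransparency.types false

universe u

open CategoryTheory CategoryTheory.Limits AlgebraicGeometry Opposite

namespace Groth.Agent.GenBC24

open Groth.Agent.EtStalk Groth.Agent.EtZero9

/-- The free module over the integers modulo `ℓ`. -/
noncomputable def freeMod (ℓ : ℕ) : Type (u + 1) ⥤ AddCommGrpCat.{u + 1} where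
  obj α := AddCommGrpCat.of (α →₀ ZMod ℓ)
  map f := AddCommGrpCat.ofHom (Finsupp.mapDomain.addMonoidHom f)
  map_id α := AddCommGrpCat.hom_ext (AddMonoidHom.ext fun x => Finsupp.mapDomain_id (v := x))
  map_comp f g := AddCommGrpCat.hom_ext (AddMonoidHom.ext fun x => Finsupp.mapDomain_comp (f := ⇑(ConcreteCategory.hom f)) (g := ⇑(ConcreteCategory.hom g)) (v := x))

variable {X Y : Scheme.{u}} (ℓ : ℕ)

/-- The free sheaf of modules over the integers modulo `ℓ`. -/
noncomputable def freeModSh (F : EtDesc.Sh X) : EtCoh.Ab X :=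
  (presheafToSheaf X.smallEtaleTopology AddCommGrpCat.{u + 1}).obj (F.obj ⋙ freeMod ℓ)

lemma nsmul_finsupp_eq_zero {α : Type (u + 1)} (x : α →₀ ZMod ℓ) : ℓ • x = 0 :=
  Finsupp.ext fun a => by
    rw [Finsupp.smul_apply, Finsupp.zero_apply, nsmul_eq_mul, ZMod.natCast_self, zero_mul]

lemma nsmul_id_freeModSh (F : EtDesc.Sh X) : ℓ • 𝟙 (freeModSh ℓ F) = 0 := by
  refine Sheaf.hom_ext (sheafify_hom_ext _ _ _ (freeModSh ℓ F).property ?_)
  refine NatTrans.ext (funext fun U => AddCommGrpCat.hom_ext (AddMonoidHom.ext fun x => ?_))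
  show ℓ • (toSheafify X.smallEtaleTopology (F.obj ⋙ freeMod ℓ)).app U x = 0
  rw [← map_nsmul]
  convert map_zero ((toSheafify X.smallEtaleTopology (F.obj ⋙ freeMod ℓ)).app U).hom
  exact nsmul_finsupp_eq_zero ℓ x

/-- The map into the free sheaf. -/
noncomputable def toFreeMod (F : EtDesc.Sh X) : F ⟶ (toSets X).obj (freeModSh ℓ F) :=
  ⟨{ app := fun U => ↾fun s => (toSheafify X.smallEtaleTopology (F.obj ⋙ freeMod ℓ)).app U (Finsupp.single s 1)
     naturality := fun U V g => by
      ext s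
      show (toSheafify X.smallEtaleTopology (F.obj ⋙ freeMod ℓ)).app V (Finsupp.single (F.obj.map g s) 1) =
        (freeModSh ℓ F).obj.map g ((toSheafify X.smallEtaleTopology (F.obj ⋙ freeMod ℓ)).app U (Finsupp.single s 1))
      refine Eq.trans ?_ (ConcreteCategory.congr_hom
        ((toSheafify X.smallEtaleTopology (F.obj ⋙ freeMod ℓ)).naturality g) (Finsupp.single s 1))
      exact congrArg _ (Finsupp.mapDomain_single).symm }⟩

theorem mono_toFreeMod [Fact (1 < ℓ)] (F : EtDesc.Sh X) : Mono (toFreeMod ℓ F) := by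
  rw [Sets.mono_iff_app_injective]
  intro U s t h
  obtain ⟨U⟩ := U
  have hS := Presheaf.equalizerSieve_mem X.smallEtaleTopology
    (toSheafify X.smallEtaleTopology (F.obj ⋙ freeMod ℓ)) (X := op U) (Finsupp.single s 1) (Finsupp.single t 1) h
  refine ((((isSheaf_iff_isSheaf_of_type _ _).1 F.property) _ hS).isSeparatedFor.ext ?_)
  intro V g hg
  have hg' : Finsupp.mapDomain (F.obj.map g.op) (Finsupp.single s (1 : ZMod ℓ)) =
      Finsupp.mapDomain (F.obj.map g.op) (Finsupp.single t 1) := hg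
  rw [Finsupp.mapDomain_single, Finsupp.mapDomain_single] at hg'
  exact Finsupp.single_left_injective one_ne_zero hg'

/-- An acyclic morphism for a set of primes with at least one prime is zero-acyclic. -/
theorem isZeroAcyclic_of_isAcyclicN (g : X ⟶ Y) [QuasiCompact g] [QuasiSeparated g] {L : Set ℕ}
    (hL : ∃ p ∈ L, p.Prime) {n : ℕ} (hg : EtAcyc.IsAcyclicN g L n) : EtAcyc.IsZeroAcyclic g := by
  obtain ⟨p, hpL, hp⟩ := hL
  intro V F
  haveI : Surjective g := ⟨EtAcyc24.surjective_of_isAcyclicN g L n ⟨p, hpL, hp⟩ hg⟩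
  let f := EtAcyc.prj g V
  haveI : Surjective f := MorphismProperty.pullback_fst _ _ ‹_›
  haveI : Fact (1 < p) := ⟨hp.one_lt⟩
  have hmono : ∀ F : EtDesc.Sh V.left, Mono ((EtDesc.adjSh f).unit.app F) :=
    EtDesc24.mono_unit_of_surjective f
  have hT : EtAcyc.IsLTorsion L (freeModSh p F) :=
    EtAcyc24.isLTorsion_of_nsmul L (m := p)
      ⟨hp.pos, fun q hq hd => ((Nat.prime_dvd_prime_iff_eq hq hp).1 hd).symm ▸ hpL⟩ (nsmul_id_freeModSh p F)
  rw [S3510.result] at hg
  haveI := (isIso_unit_iff f _).1 (hg V _ hT).1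
  haveI := mono_toFreeMod p F
  rw [← isIso_iff_of_reflects_iso _ (sheafToPresheaf _ _), NatTrans.isIso_iff_isIso_app]
  rintro ⟨W⟩
  rw [isIso_iff_bijective]
  refine ⟨(Sets.mono_iff_app_injective _).1 (hmono F) _, fun ξ => ?_⟩
  refine mem_range_unit_of_mono f hmono (toFreeMod p F) W ξ ?_
  haveI : IsIso ((EtDesc.adjSh f).unit.app ((toSets V.left).obj (freeModSh p F))).hom :=
    inferInstanceAs (IsIso ((sheafToPresheaf _ _).map _))
  exact ((isIso_iff_bijective _).1 inferInstance).2 _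

/-- Universal local acyclicity for a set of primes with at least one prime gives that for sets in degree zero. -/
theorem isULocZeroAcyclic_of_isULocAcyclicN (g : X ⟶ Y) {L : Set ℕ} (hL : ∃ p ∈ L, p.Prime) {n : ℕ}
    (hg : EtAcyc.IsULocAcyclicN g L n) : EtAcyc.IsULocZeroAcyclic g := by
  intro X₁ Y₁ g₁ b' b h x RY RX _ _ _ _ _ _ _ _ _ _ _ _ hc
  exact isZeroAcyclic_of_isAcyclicN _ hL (hg g₁ b' b h x RY RX hc)

end Groth.Agent.GenBC24
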