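import Groth.Agent.Lib.GenBC24.PointBC
import Groth.Agent.S6664
import Groth.Agent.Lib.BcMapQ6.Degrees
import Groth.Agent.Lib.BcMapQ6.Torsion

/-!
# Base change along quasi-compact quasi-separated morphisms for universally locally acyclic morphisms
-/

set_option autoImplicit false
set_option linter.style.haveILetI false
set_option backward.isDefEq.respectTransparency.types false

universe u

open CategoryTheory CategoryTheory.Limits AlgebraicGeometry Opposite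

namespace Groth.Agent.GenBC24

variable {L : Set ℕ} {n : ℕ}

theorem isULocAcyclicN_of_isPullback {X Y X' Y' : Scheme.{u}} {g : X ⟶ Y} {g₁ : X' ⟶ Y'} {r : X' ⟶ X}
    {p : Y' ⟶ Y} (h : IsPullback r g₁ g p) (hg : EtAcyc.IsULocAcyclicN g L n) :
    EtAcyc.IsULocAcyclicN g₁ L n :=
  fun _ _ g₂ b' b h₂ => hg g₂ (b' ≫ r) (b ≫ p) (h₂.paste_horiz h)

set_option maxHeartbeats 1000000 in
/-- Base change in degrees up to `n` for sheaves killed by an integer, after every base change. -/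
theorem bc_killed {X S : Scheme.{u}} {f : X ⟶ S} (hf : EtAcyc.IsULocAcyclicN f L n) {a : ℕ}
    (ha : EtAcyc.PrimesIn L a) : ∀ q ≤ n,
      ∀ ⦃S₂ X₂ T₂ Y₂ : Scheme.{u}⦄ (p₂ : S₂ ⟶ S) (f₂ : X₂ ⟶ S₂) (r₂ : X₂ ⟶ X),
        IsPullback r₂ f₂ f p₂ →
        ∀ (g₂ : T₂ ⟶ S₂) (h₂ : Y₂ ⟶ X₂) (e₂ : Y₂ ⟶ T₂) (c₂ : IsPullback e₂ h₂ g₂ f₂)
          [QuasiCompact g₂] [QuasiSeparated g₂] [PreservesFiniteLimits (EtCoh.pull e₂)]
          (G₂ : EtCoh.Ab T₂), EtCoh.KilledBy a G₂ →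
          ∀ q₂ : ℕ, q₂ ≤ q → IsIso (EtBC.bcQ g₂ f₂ h₂ e₂ c₂.w q₂ G₂) := by
  intro q
  induction q with
  | zero =>
    intro _ S₂ X₂ T₂ Y₂ p₂ f₂ r₂ hr g₂ h₂ e₂ c₂ _ _ _ G₂ hG q₂ hq₂
    obtain rfl : q₂ = 0 := by omega
    exact isIso_bcQ_zero (isULocAcyclicN_of_isPullback hr hf) g₂ c₂ G₂
      (EtAcyc24.isLTorsion_of_nsmul L ha (EtBCQ24.nsmul_id_of_killedBy hG))
  | succ m ih =>
    intro hm
    by_contra hnot
    obtain ⟨S', X', Y', _, -, -, -, p, f', r, hr, K, _, _, σ, -, h, e, sq, d, hd, hne⟩ :=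
      Groth.Agent.S6664.result f a (m + 1) (by omega) ha.1 (ih (by omega)) hnot
    have hf' := isULocAcyclicN_of_isPullback hr hf
    have hF : EtCoh.KilledBy a (EtCoh.const S' (ZMod d)) := by
      obtain ⟨c, rfl⟩ := hd
      refine EtBCQ24.killedBy_of_nsmul ?_
      rw [mul_comm, mul_nsmul', EtAcyc24.nsmul_id_const, smul_zero]
    haveI : PreservesFiniteLimits (EtCoh.pull e) := EtStalk.preservesFiniteLimits_pull e
    haveI := isIso_bcQ_point hf' σ sq ha _ hF (m + 1) hm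
    refine hne ?_
    have hz := (EtCoh.pull f').map_isZero
      (EtAcyc24.isZero_Rpush_of_acyc σ (BCField24.acyc_point K ((EtCoh.pull σ).obj (EtCoh.const S' (ZMod d))))
        (m + 1) m.succ_pos)
    exact (hz.of_iso (asIso (EtBC.bcQ σ f' h e sq.w (m + 1) _)).symm).of_iso
      ((EtCoh.Rpush h (m + 1)).mapIso
        ((EtCoh.pull e).mapIso (EtCore.pullConst σ (ZMod d)) ≪≫ EtCore.pullConst e (ZMod d))).symm

section

attribute [local instance] HasDerivedCategory.standard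

variable {X Y X' Y' : Scheme.{u}} {f : X ⟶ Y} {g : Y' ⟶ Y} {f' : X' ⟶ Y'} {g' : X' ⟶ X}
  [QuasiCompact f] [QuasiSeparated f]

/-- Base change for torsion sheaves in the degrees up to `n + 1`. -/
theorem bcQ_of_uloc [PreservesFiniteLimits (EtCoh.pull g')] (hg : EtAcyc.IsULocAcyclicN g L n)
    (sq : IsPullback g' f' f g) (F : EtCoh.Ab X) (hF : EtAcyc.IsLTorsion L F) :
    (∀ q ≤ n, IsIso (EtBC.bcQ f g f' g' sq.w q F)) ∧ Mono (EtBC.bcQ f g f' g' sq.w (n + 1) F) := by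
  haveI : QuasiCompact f' := MorphismProperty.of_isPullback sq ‹QuasiCompact f›
  haveI : QuasiSeparated f' := MorphismProperty.of_isPullback sq ‹QuasiSeparated f›
  haveI : IsFiltered (ULift.{u + 1} ℕ) := isFiltered_of_directed_le_nonempty _
  have hk : ∀ (a : ℕ) (G : EtCoh.Ab X), EtAcyc.PrimesIn L a → EtCoh.KilledBy a G → ∀ q ≤ n,
      IsIso (EtBC.bcQ f g f' g' sq.w q G) := fun a G ha hG q hq =>
    bc_killed hg ha q hq (𝟙 Y) g (𝟙 Y') (IsPullback.of_horiz_isIso ⟨by simp⟩) f f' g' sq G hG q le_rfl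
  exact ⟨fun q hq => BcMapQ6.bcQ_colim f g f' g' sq.w (MorphismProperty.isomorphisms _) L q F hF
      fun a G ha hG => hk a G ha hG q hq,
    BcMapQ6.bcQ_colim f g f' g' sq.w (MorphismProperty.monomorphisms _) L (n + 1) F hF
      fun a G ha hG => EtBCQ24.mono_bcQ_succ g f f' g' sq.w a n (fun G' hG' => hk a G' ha hG' n le_rfl) G hG⟩

/-- The same for the derived base change morphism. -/
theorem homology_bcMap_of_uloc [PreservesFiniteLimits (EtCoh.pull g)] [PreservesFiniteLimits (EtCoh.pull g')]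
    [DCoh.HasRpushEt X f] [DCoh.HasRpushEt X' f'] [DCoh.HasRpushEt Y' g]
    (adj : EtBC.pullD g ⊣ DCoh.RpushEt Y' g) (hg : EtAcyc.IsULocAcyclicN g L n) (sq : IsPullback g' f' f g)
    (F : EtCoh.Ab X) (hF : EtAcyc.IsLTorsion L F) :
    (∀ q : ℤ, q ≤ n → IsIso ((DerivedCategory.homologyFunctor (EtCoh.Ab Y') q).map
      (EtBC.bcMap f g f' g' sq.w adj (EtBC.single X F)))) ∧
    Mono ((DerivedCategory.homologyFunctor (EtCoh.Ab Y') ((n : ℤ) + 1)).map
      (EtBC.bcMap f g f' g' sq.w adj (EtBC.single X F))) := by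
  obtain ⟨h1, h2⟩ := bcQ_of_uloc hg sq F hF
  refine ⟨fun q hq => ?_, (BcMapQ6.mono_homology_bcMap_iff g f g' f' sq.w adj F (n + 1)).2 h2⟩
  rcases lt_or_ge q 0 with h | h
  · exact BcMapQ6.isIso_homology_bcMap_of_neg g f g' f' sq.w adj F q h
  · obtain ⟨m, rfl⟩ := Int.eq_ofNat_of_zero_le h
    exact (BcMapQ6.isIso_homology_bcMap_iff g f g' f' sq.w adj F m).2 (h1 m (by omega))

end

end Groth.Agent.GenBC24
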