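import Groth.Agent.Lib.EtSets24.StrictLocal
import Groth.Agent.Lib.EtSets24.FlatFibres
import Groth.Agent.Lib.EtSets24.Discrete
import Groth.Agent.Lib.EtAcyc24.Comp
import Groth.Agent.Lib.LocAcyc24.CompCancel
import Groth.Agent.Lib.Hens.Local
import Groth.Agent.Lib.CurveConn25.Discrete

/-!
# Universal homeomorphisms are locally acyclic in degree zero
-/

set_option autoImplicit false
set_option linter.style.haveILetI false
set_option backward.isDefEq.respectTransparency.types false

universe u

open CategoryTheory CategoryTheory.Limits AlgebraicGeometry Opposite TensorProduct IsLocalRing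

namespace Groth.Agent.GenBC24

open GeomConn24

/-- Radicial surjective morphisms have connected geometric fibres. -/
theorem geometricallyConnected_of_universallyInjective {X Y : Scheme.{u}} (f : X ⟶ Y) [UniversallyInjective f]
    [Surjective f] : GeometricallyConnected f :=
  ⟨fun K _ y W w q h => by
    haveI : UniversallyInjective q := MorphismProperty.of_isPullback h ‹UniversallyInjective f›
    haveI : Surjective q := MorphismProperty.of_isPullback h ‹Surjective f›
    haveI : Nonempty W := ⟨(q.surjective default).choose⟩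
    haveI : Subsingleton W := q.injective.subsingleton
    infer_instance⟩

/-- Stages of a base change. -/
theorem staged_baseChange {R R' A : Type u} [CommRing R] [CommRing R'] [Algebra R R'] [CommRing A] [Algebra R A]
    (hA : Staged R A) : Staged R' (R' ⊗[R] A) := by
  classical
  intro s
  have hfin : ∀ c : R' ⊗[R] A, ∃ T : Finset A, ∀ (S : Type u) [CommRing S] [Algebra R S] (π : S →ₐ[R] A) (t : A),
      (∀ a ∈ T, t * a ∈ π.range) → ((1 : R') ⊗ₜ[R] t) * c ∈ (Algebra.TensorProduct.map (AlgHom.id R' R') π).range := by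
    intro c
    induction c using TensorProduct.induction_on with
    | zero => exact ⟨∅, fun S _ _ π t _ => by rw [mul_zero]; exact zero_mem _⟩
    | tmul r a =>
      refine ⟨{a}, fun S _ _ π t h => ?_⟩
      obtain ⟨y, hy⟩ := h a (Finset.mem_singleton_self a)
      exact ⟨r ⊗ₜ y, by
        show Algebra.TensorProduct.map (AlgHom.id R' R') π (r ⊗ₜ y) = _
        rw [Algebra.TensorProduct.map_tmul, Algebra.TensorProduct.tmul_mul_tmul, one_mul]
        exact congrArg (r ⊗ₜ[R] ·) hy⟩
    | add v w hv hw =>
      obtain ⟨T₁, h₁⟩ := hv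
      obtain ⟨T₂, h₂⟩ := hw
      refine ⟨T₁ ∪ T₂, fun S _ _ π t h => ?_⟩
      rw [mul_add]
      exact add_mem (h₁ S π t fun a ha => h a (Finset.mem_union_left _ ha))
        (h₂ S π t fun a ha => h a (Finset.mem_union_right _ ha))
  choose T hT using hfin
  obtain ⟨S, _, _, _, π, t, ht, h⟩ := hA (s.biUnion T)
  exact ⟨R' ⊗[R] S, inferInstance, inferInstance, inferInstance, Algebra.TensorProduct.map (AlgHom.id R' R') π,
    (1 : R') ⊗ₜ[R] t, ht.map (Algebra.TensorProduct.includeRight : A →ₐ[R] R' ⊗[R] A),
    fun c hc => hT c S π t fun a ha => h a (Finset.mem_biUnion.2 ⟨c, hc, ha⟩)⟩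

/-- The staged case of a radicial integral surjective algebra. -/
theorem isZeroAcyclic_univHomeo {R R' A B : Type u} [CommRing R] [CommRing R'] [Algebra R R']
    [IsIntegralHom (Spec.map (CommRingCat.ofHom (algebraMap R R')))]
    [UniversallyInjective (Spec.map (CommRingCat.ofHom (algebraMap R R')))]
    [Surjective (Spec.map (CommRingCat.ofHom (algebraMap R R')))]
    [CommRing A] [Algebra R A] [HenselianLocalRing A] [IsSepClosed (ResidueField A)] [CommRing B] [IsLocalRing B]
    [Algebra R' B] [Algebra R B] [IsScalarTower R R' B] [Algebra A B] [IsScalarTower R A B]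
    [IsLocalHom (algebraMap A B)] [Module.Flat R' B] (hA : Staged R A) (hB : Staged R' B) :
    EtAcyc.IsZeroAcyclic (Spec.map (CommRingCat.ofHom (algebraMap A B))) := by
  let C := R' ⊗[R] A
  let inR : A →+* C := (Algebra.TensorProduct.includeRight : A →ₐ[R] C).toRingHom
  let q := Spec.map (CommRingCat.ofHom inR)
  have hq : q = (pullbackSpecIso R R' A).inv ≫ pullback.snd _ _ := (pullbackSpecIso_inv_snd R R' A).symm
  haveI : IsIntegralHom q := by rw [hq]; infer_instance
  haveI : UniversallyInjective (pullback.snd (Spec.map (CommRingCat.ofHom (algebraMap R R')))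
      (Spec.map (CommRingCat.ofHom (algebraMap R A)))) := MorphismProperty.pullback_snd _ _ inferInstance
  haveI : UniversallyInjective q := by
    rw [hq]; exact MorphismProperty.comp_mem _ _ _ inferInstance inferInstance
  haveI : Surjective q := by rw [hq]; infer_instance
  letI : Algebra A C := inR.toAlgebra
  haveI : Algebra.IsIntegral A C := ⟨(IsIntegralHom.SpecMap_iff (φ := CommRingCat.ofHom inR)).1 ‹IsIntegralHom q›⟩
  haveI : Nontrivial C := by
    obtain ⟨P, -⟩ := q.surjective (closedPoint A)
    exact (PrimeSpectrum.nonempty_iff_nontrivial).1 ⟨P⟩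
  have huniq : ∀ M : Ideal C, M.IsMaximal → M.comap inR = maximalIdeal A := fun M hM =>
    haveI := hM
    IsLocalRing.eq_maximalIdeal (Ideal.isMaximal_comap_of_isIntegral_of_isMaximal' inR
      (fun x => Algebra.IsIntegral.isIntegral (R := A) x) M)
  haveI : IsLocalRing C := by
    obtain ⟨M, hM⟩ := Ideal.exists_maximal C
    refine IsLocalRing.of_unique_max_ideal ⟨M, hM, fun M' hM' => ?_⟩
    have h : q ⟨M', hM'.isPrime⟩ = q ⟨M, hM.isPrime⟩ :=
      PrimeSpectrum.ext ((huniq M' hM').trans (huniq M hM).symm)
    exact congrArg PrimeSpectrum.asIdeal (q.injective h)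
  haveI : HenselianLocalRing C := Hens.henselianLocalRing_of_isIntegral A C
  haveI : IsLocalHom (algebraMap A C) := ((local_hom_TFAE (algebraMap A C)).out 0 4).2
    (huniq _ (maximalIdeal.isMaximal C))
  haveI : Algebra.IsAlgebraic (ResidueField A) (ResidueField C) := ⟨fun z => by
    obtain ⟨c, rfl⟩ := residue_surjective z
    exact ((Algebra.IsIntegral.isIntegral (R := A) c).map_of_comp_eq (residue A) (residue C)
      (RingHom.ext fun _ => rfl)).isAlgebraic⟩
  haveI : IsSepClosed (ResidueField C) := CurveConn25.isSepClosed_of_isAlgebraic (ResidueField A) _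
  let μ : C →ₐ[R'] B := Algebra.TensorProduct.lift (Algebra.ofId R' B) (IsScalarTower.toAlgHom R A B)
    fun _ _ => .all _ _
  letI : Algebra C B := μ.toRingHom.toAlgebra
  haveI : IsScalarTower R' C B := .of_algebraMap_eq fun r => (μ.commutes r).symm
  have hμ : ∀ a : A, μ (inR a) = algebraMap A B a := fun a => by
    show μ ((1 : R') ⊗ₜ[R] a) = _
    rw [Algebra.TensorProduct.lift_tmul, map_one, one_mul]
    rfl
  haveI : IsLocalHom (algebraMap C B) := ((local_hom_TFAE (algebraMap C B)).out 0 4).2 (by
    have hP : ((maximalIdeal B).comap (algebraMap C B)).comap inR = maximalIdeal A := by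
      rw [Ideal.comap_comap, show (algebraMap C B).comp inR = algebraMap A B from RingHom.ext hμ]
      exact ((local_hom_TFAE (algebraMap A B)).out 0 4).1 ‹_›
    haveI : (((maximalIdeal B).comap (algebraMap C B)).comap (algebraMap A C)).IsMaximal := by
      rw [show (algebraMap A C) = inR from rfl, hP]
      exact maximalIdeal.isMaximal A
    exact IsLocalRing.eq_maximalIdeal (Ideal.isMaximal_of_isIntegral_of_isMaximal_comap
      ((maximalIdeal B).comap (algebraMap C B)) this))
  have hCB : EtAcyc.IsZeroAcyclic (Spec.map (CommRingCat.ofHom (algebraMap C B))) :=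
    EtSets24.isZeroAcyclic_of_staged (R := R') (R' := R') (staged_baseChange hA) hB fun L _ _ _ _ _ S' _ a₁ a₂ htow _ => by
      obtain rfl : a₁ = a₂ := Algebra.algebra_ext _ _ fun r => @IsScalarTower.algebraMap_apply R' R' S' _ _ _ _ a₂ a₁ htow r
      haveI : Algebra.FinitePresentation R' S' := inferInstance
      refine lifts_finitePresentation fun K _ _ => ?_
      haveI : _root_.IsReduced (R' ⊗[R'] K) :=
        isReduced_of_injective (Algebra.TensorProduct.lid R' K) (AlgEquiv.injective _)
      exact isReduced_tensor_of_etale (R₁ := R')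
  have hAC : EtAcyc.IsZeroAcyclic q := fun V F => by
    haveI := geometricallyConnected_of_universallyInjective q
    haveI : UniversallyClosed q := inferInstance
    refine EtSets24.isIso_unit _ F (EtSets24.isUnivSubmersive_pullback_fst V.hom _ fun T t => ?_)
    exact ⟨(pullback.snd q t).surjective, (pullback.snd q t).isClosedMap.isQuotientMap
      (pullback.snd q t).continuous (pullback.snd q t).surjective⟩
  have h := (EtAcyc24.isZeroAcyclic_comp_iff (Spec.map (CommRingCat.ofHom (algebraMap C B))) q hCB).1 hAC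
  rwa [← Spec.map_comp, ← CommRingCat.ofHom_comp,
    show (algebraMap C B).comp inR = algebraMap A B from RingHom.ext hμ] at h

/-- Universal homeomorphisms are locally acyclic in degree zero. -/
theorem isLocZeroAcyclic_univHomeo {X Y : Scheme.{u}} (i : X ⟶ Y) [IsIntegralHom i] [UniversallyInjective i]
    [Surjective i] : EtAcyc.IsLocZeroAcyclic i := by
  refine EtSets24.isLocZeroAcyclic_of_charts i fun x => ?_
  obtain ⟨U, hU, hxU, -⟩ : ∃ U : Y.Opens, IsAffineOpen U ∧ i x ∈ U ∧ (U : Set Y) ⊆ Set.univ :=
    exists_isAffineOpen_mem_and_subset (U := (⊤ : Y.Opens)) trivial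
  have hV : IsAffineOpen (i ⁻¹ᵁ U) := hU.preimage i
  refine ⟨U, hU, hxU, i ⁻¹ᵁ U, hV, hxU, le_rfl, ?_⟩
  letI : Algebra Γ(Y, U) Γ(X, i ⁻¹ᵁ U) := (i.appLE U (i ⁻¹ᵁ U) le_rfl).hom.toAlgebra
  let s := Spec.map (CommRingCat.ofHom (algebraMap Γ(Y, U) Γ(X, i ⁻¹ᵁ U)))
  have hs : Arrow.mk s ≅ Arrow.mk (i ∣_ U) :=
    Arrow.isoMk hV.isoSpec.symm hU.isoSpec.symm (by
      simp only [Arrow.mk_hom, Iso.symm_hom, ← cancel_mono U.ι, Category.assoc, morphismRestrict_ι]
      rw [IsAffineOpen.isoSpec_inv_ι, IsAffineOpen.isoSpec_inv_ι_assoc]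
      exact (IsAffineOpen.SpecMap_appLE_fromSpec i hU hV le_rfl).symm)
  have hr := (isPullback_morphismRestrict i U).flip
  haveI : IsIntegralHom s := (MorphismProperty.arrow_mk_iso_iff @IsIntegralHom hs).2
    (MorphismProperty.of_isPullback hr ‹IsIntegralHom i›)
  haveI : UniversallyInjective s := (MorphismProperty.arrow_mk_iso_iff @UniversallyInjective hs).2
    (MorphismProperty.of_isPullback hr ‹UniversallyInjective i›)
  haveI : Surjective s := (MorphismProperty.arrow_mk_iso_iff @Surjective hs).2
    (MorphismProperty.of_isPullback hr ‹Surjective i›)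
  intro A B _ _ _ _ _ _ _ _ _ _ _ _ _ hA hB
  exact isZeroAcyclic_univHomeo hA hB

end Groth.Agent.GenBC24
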